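import Mathlib
import Groth.Prelude.Def_AlgGrp
import Groth.Agent.Lib.Helper24.ZeroDimAct.Main14633
import Groth.Agent.Lib.Helper24.NFT.Conn
import Groth.Agent.Lib.Helper18.FieldBC.ProdDim

/-!
# Helper24 — S14634: a curve is almost homogeneous under a smooth connected group iff the action
is non-trivial
-/

set_option autoImplicit false
set_option linter.style.haveILetI false
universe u

open CategoryTheory MonoidalCategory CartesianMonoidalCategory MonObj GrpObj AlgebraicGeometry Limits
  TopologicalSpace

namespace Groth.Agent.Lib.Helper24.CurveAct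

/-- in an irreducible space of dimension `n + 1`, an irreducible closed subset containing a closed
subset of dimension `n` is that subset or the whole space -/
theorem eq_or_eq_univ_of_dim {T : Type*} [TopologicalSpace T] [IrreducibleSpace T] (n : ℕ)
    (hT : topologicalKrullDim T = ((n + 1 : ℕ) : WithBot ℕ∞)) (V W : Set T) (hVc : IsClosed V)
    (hV : topologicalKrullDim ↥V = n) (hW : IsIrreducible W) (hWc : IsClosed W) (hVW : V ⊆ W) :
    W = V ∨ W = Set.univ := by
  by_contra hne
  push Not at hne
  obtain ⟨h1, h2⟩ := hne
  have h1' : (n : WithBot ℕ∞) ≤ Order.krullDim (IrreducibleCloseds ↥V) := by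
    rw [← hV]; rfl
  obtain ⟨l, hl⟩ := (Order.le_krullDim_iff).1 h1'
  have hind : Topology.IsInducing (Subtype.val : ↥V → T) := Topology.IsInducing.subtypeVal
  let l' : LTSeries (IrreducibleCloseds T) :=
    l.map (IrreducibleCloseds.map Subtype.val continuous_subtype_val)
      (IrreducibleCloseds.map_strictMono_of_isInducing hind)
  let mid : IrreducibleCloseds T := ⟨W, hW, hWc⟩
  let top : IrreducibleCloseds T :=
    ⟨Set.univ, IrreducibleSpace.isIrreducible_univ T, isClosed_univ⟩
  have hsub : ((l'.last : IrreducibleCloseds T) : Set T) ⊆ V := by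
    show closure (Subtype.val '' _) ⊆ V
    apply closure_minimal _ hVc
    rintro _ ⟨v, -, rfl⟩
    exact v.2
  have hlast : l'.last < mid := by
    rw [lt_iff_le_and_ne]
    refine ⟨fun x hx => hVW (hsub hx), fun heq => h1 ?_⟩
    have h3 : ((l'.last : IrreducibleCloseds T) : Set T) = W := by rw [heq]; rfl
    rw [h3] at hsub
    exact Set.Subset.antisymm hsub hVW
  have hmid : mid < top := by
    rw [lt_iff_le_and_ne]
    refine ⟨fun x _ => trivial, fun heq => h2 ?_⟩
    exact congrArg (fun Z : IrreducibleCloseds T => (Z : Set T)) heq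
  have hmid' : (l'.snoc mid hlast).last < top := by
    rw [RelSeries.last_snoc]; exact hmid
  have h4 := Order.LTSeries.length_le_krullDim ((l'.snoc mid hlast).snoc top hmid')
  have h5 : ((l'.snoc mid hlast).snoc top hmid').length = n + 2 := by
    simp [l', hl]
  rw [h5] at h4
  have h6 : Order.krullDim (IrreducibleCloseds T) = ((n + 1 : ℕ) : WithBot ℕ∞) := hT
  rw [h6] at h4
  have : (n + 2 : ℕ) ≤ n + 1 := by exact_mod_cast h4
  omega

variable {k : Type u} [Field k]

/-- a connected group scheme over a field is geometrically irreducible -/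
theorem geometricallyIrreducible_of_grpObj (G : Over (Spec (CommRingCat.of k))) [GrpObj G]
    [ConnectedSpace ↥G.left] : GeometricallyIrreducible G.hom := by
  haveI : GeometricallyConnected G.hom := Blanchard.geometricallyConnected_of_grpObj G
  rw [GeometricallyIrreducible.eq_geometrically,
    geometrically_iff_of_commRing_of_isClosedUnderIsomorphisms]
  intro K _ _
  let σ := Spec.map (CommRingCat.ofHom (algebraMap k K))
  haveI : GeometricallyConnected (pullback.snd G.hom σ) := inferInstance
  haveI : Nonempty ↥(Spec (CommRingCat.of K)) := inferInstanceAs (Nonempty (PrimeSpectrum K))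
  haveI : Subsingleton ↥(Spec (CommRingCat.of K)) :=
    inferInstanceAs (Subsingleton (PrimeSpectrum K))
  haveI : ConnectedSpace ↥(pullback G.hom σ) :=
    GeometricallyConnected.connectedSpace_of_subsingleton (pullback.snd G.hom σ)
  haveI : ConnectedSpace ↥(Red.bc σ G).left := ‹ConnectedSpace ↥(pullback G.hom σ)›
  exact NFT.irreducibleSpace_of_connectedSpace (G := Red.bc σ G)

/-- **S14634** -/
theorem main14634 (G C : Over (Spec (CommRingCat.of k))) [GrpObj G] [Smooth G.hom]
    [ConnectedSpace ↥G.left] [IsSeparated C.hom] [LocallyOfFiniteType C.hom]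
    [GeometricallyIntegral C.hom] (hdim : topologicalKrullDim ↥C.left = 1)
    (a : AlgGrp.Action G C) :
    IsDominant (lift (snd G C) a.act).left ↔ a.act ≠ snd G C := by
  haveI : Subsingleton ↥(Spec (CommRingCat.of k)) :=
    inferInstanceAs (Subsingleton (PrimeSpectrum k))
  haveI : IsIntegral C.left := GeometricallyIntegral.isIntegral_of_subsingleton C.hom
  haveI : LocallyOfFiniteType G.hom := inferInstance
  haveI : LocallyOfFinitePresentation C.hom :=
    LocallyOfFinitePresentation.iff_locallyOfFiniteType.2 inferInstance
  haveI : UniversallyOpen C.hom := inferInstance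
  haveI : UniversallyOpen G.hom := inferInstance
  haveI : IrreducibleSpace ↥(C ⊗ C).left :=
    inferInstanceAs (IrreducibleSpace ↥(pullback C.hom C.hom))
  have hdimT : topologicalKrullDim ↥(C ⊗ C).left = ((1 + 1 : ℕ) : WithBot ℕ∞) := by
    have h0 := Groth.Agent.Lib.Helper18.FieldBC.topologicalKrullDim_pullback_eq_add C.hom C.hom
    rw [hdim] at h0
    exact h0
  -- the diagonal
  let Δ : C ⟶ C ⊗ C := lift (𝟙 C) (𝟙 C)
  haveI : IsClosedImmersion Δ.left := by
    haveI : IsClosedImmersion (Δ.left ≫ (fst C C).left) := by
      rw [← Over.comp_left, lift_fst]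
      exact inferInstanceAs (IsClosedImmersion (𝟙 C.left))
    haveI : IsSeparated (fst C C).left :=
      inferInstanceAs (IsSeparated (pullback.fst C.hom C.hom))
    exact IsClosedImmersion.of_comp Δ.left (fst C C).left
  let V : Set ↥(C ⊗ C).left := Set.range Δ.left
  have hVc : IsClosed V := Δ.left.isClosedEmbedding.isClosed_range
  have hV : topologicalKrullDim ↥V = ((1 : ℕ) : WithBot ℕ∞) := by
    have e := Δ.left.isEmbedding.toHomeomorph
    rw [← IsHomeomorph.topologicalKrullDim_eq _ e.isHomeomorph]
    exact hdim
  -- `G ⊗ C` is irreducible and reduced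
  haveI : GeometricallyIrreducible G.hom := geometricallyIrreducible_of_grpObj G
  haveI : IrreducibleSpace ↥C.left := inferInstance
  haveI : IrreducibleSpace ↥(G ⊗ C).left :=
    inferInstanceAs (IrreducibleSpace ↥(pullback G.hom C.hom))
  haveI : Smooth (snd G C).left := inferInstanceAs (Smooth (pullback.snd G.hom C.hom))
  haveI : IsReduced (G ⊗ C).left :=
    Groth.Agent.Lib.Helper3.isReduced_of_smooth_scheme (snd G C).left
  let h : G ⊗ C ⟶ C ⊗ C := lift (snd G C) a.act
  let ε : C ⟶ G ⊗ C := lift (toUnit C ≫ η[G]) (𝟙 C)
  have hεa : ε ≫ a.act = 𝟙 C := by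
    have h1 : ε = (λ_ C).inv ≫ (η[G] ▷ C) := by
      apply CartesianMonoidalCategory.hom_ext <;> simp [ε]
    rw [h1, Category.assoc, a.one_act, Iso.inv_hom_id]
  have hε : ε ≫ h = Δ := by
    apply CartesianMonoidalCategory.hom_ext
    · rw [Category.assoc, lift_fst, lift_fst, lift_snd]
    · rw [Category.assoc, lift_snd, lift_snd, hεa]
  let W : Set ↥(C ⊗ C).left := closure (Set.range h.left)
  have hW : IsIrreducible W := by
    have h1 : IsIrreducible (Set.range h.left) := by
      rw [← Set.image_univ]
      exact (IrreducibleSpace.isIrreducible_univ _).image _ h.left.continuous.continuousOn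
    exact h1.closure
  have hVW : V ⊆ W := by
    rintro _ ⟨c, rfl⟩
    apply subset_closure
    refine ⟨ε.left c, ?_⟩
    rw [← Scheme.Hom.comp_apply, ← Over.comp_left, hε]
  constructor
  · intro hdom hact
    have hh : h = snd G C ≫ Δ := by
      apply CartesianMonoidalCategory.hom_ext
      · rw [Category.assoc, lift_fst, lift_fst, Category.comp_id]
      · rw [Category.assoc, lift_snd, lift_snd, Category.comp_id, hact]
    have hsub : Set.range h.left ⊆ V := by
      rintro _ ⟨w, rfl⟩
      refine ⟨(snd G C).left w, ?_⟩
      rw [← Scheme.Hom.comp_apply, ← Over.comp_left, ← hh]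
    have hdense : closure (Set.range h.left) = Set.univ := hdom.denseRange.closure_eq
    have hVuniv : V = Set.univ := by
      apply Set.eq_univ_of_univ_subset
      rw [← hdense]
      exact closure_minimal hsub hVc
    have h3 : topologicalKrullDim ↥V = topologicalKrullDim ↥(C ⊗ C).left := by
      rw [hVuniv]
      exact IsHomeomorph.topologicalKrullDim_eq _ (Homeomorph.Set.univ _).isHomeomorph
    rw [hV, hdimT] at h3
    have : (1 : ℕ) = 1 + 1 := by exact_mod_cast h3
    omega
  · intro hne
    rcases eq_or_eq_univ_of_dim 1 hdimT V W hVc hV hW isClosed_closure hVW with h1 | h1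
    · exfalso
      apply hne
      have hrange : Set.range h.left ⊆ Set.range Δ.left := by
        change Set.range h.left ⊆ V
        rw [← h1]
        exact subset_closure
      obtain ⟨l, hl⟩ := ZeroDimAct.exists_lift_of_isReduced h.left Δ.left hrange
      have e1 : a.act.left = l := by
        have e0 : a.act.left = h.left ≫ (snd C C).left := by rw [← Over.comp_left, lift_snd]
        rw [e0, ← hl, Category.assoc, ← Over.comp_left, lift_snd, Over.id_left, Category.comp_id]
      have e2 : (snd G C).left = l := by
        have e0 : (snd G C).left = h.left ≫ (fst C C).left := by rw [← Over.comp_left, lift_fst]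
        rw [e0, ← hl, Category.assoc, ← Over.comp_left, lift_fst, Over.id_left, Category.comp_id]
      apply Over.OverMorphism.ext
      rw [e1, e2]
    · exact ⟨dense_iff_closure_eq.2 h1⟩

end Groth.Agent.Lib.Helper24.CurveAct
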